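import Cfsg.Agent.ChevalleyStructure.StBasic
import Cfsg.Agent.ChevalleyStructure.StTheta
import Cfsg.Agent.TitsThree.KExcRT
import Cfsg.Agent.CTFrame.Hom

/-!
# Homomorphisms `SL_n(K) → D.SteinbergGroup K` (helper92)

`exists_hom_St` : for a table `r` of roots of type `A_{n-1}` with signs `s` there is a homomorphism
`φ : SL_n(K) →* D.SteinbergGroup K` with `φ (t_ab(c)) = x̄_{r a b}(s_ab c)`, over every field.
-/

set_option autoImplicit false

namespace Cfsg.Agent.H92.QS

open Cfsg.Lie Cfsg.Agent.ChevalleyStructure.StBasic Cfsg.Agent.TitsThree.KExcRT Cfsg.Agent.AGraded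
open scoped commutatorElement

variable {K : Type*} [Field K] {D : ChevalleyDatum} {n : ℕ}

theorem st_comm {r s : ℕ} (hr : r < D.nroots) (hs : s < D.nroots) (hne : s ≠ r) (hneg : s ≠ D.neg r)
    (hc : D.commTerms r s = []) (t u : K) :
    D.stGen K r t * D.stGen K s u = D.stGen K s u * D.stGen K r t := by
  have h := stGen_mul_stGen D hr hs hne hneg t u
  have h1 : wd D (D.commWord K r s t u) = 1 := by
    show wd D (List.map _ (D.commTerms r s)) = 1
    rw [hc, List.map_nil, wd_nil]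
  rw [h1, mul_one] at h
  exact h.symm

/-- **The Steinberg relations of type `A`.** -/
theorem st_steinRel {r : Fin n → Fin n → ℕ} {s : Fin n → Fin n → ℤ} (ha : RTa D r) (hb : RTb D r s)
    (hc : RTc D r) (hd : RTd s) : SteinRel fun a b (t : K) => D.stGen K (r a b) ((s a b : K) * t) where
  add a b _ t u := by
    show D.stGen K _ _ = D.stGen K _ _ * D.stGen K _ _
    rw [stGen_mul, mul_add]
  comm a b c d hab hcd hbc had t u := by
    show D.stGen K _ _ * D.stGen K _ _ = D.stGen K _ _ * D.stGen K _ _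
    by_cases h : a = c ∧ b = d
    · obtain ⟨rfl, rfl⟩ := h
      rw [stGen_mul, stGen_mul, add_comm]
    · obtain ⟨h1, h2, h3⟩ := hc a b c d ⟨hab, hcd, hbc, had, h⟩
      exact st_comm (ha a b hab) (ha c d hcd) h1 h2 h3 _ _
  br a b c hab hbc hac t u := by
    obtain ⟨h1, h2, h3⟩ := hb a b c ⟨hab, hbc, hac⟩
    show ⁅D.stGen K _ _, D.stGen K _ _⁆ = D.stGen K _ _
    have hsq : ∀ a b : Fin n, ((s a b : ℤ) : K) * (s a b : K) = 1 := by
      intro a b
      rw [← Int.cast_mul, hd, Int.cast_one]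
    have c1 : ∀ t u : K, D.stGen K (r a b) t * D.stGen K (r a c) u = D.stGen K (r a c) u * D.stGen K (r a b) t := by
      intro t u
      obtain ⟨g1, g2, g3⟩ := hc a b a c ⟨hab, hac, Ne.symm hab, hac, fun h => hbc h.2⟩
      exact st_comm (ha a b hab) (ha a c hac) g1 g2 g3 _ _
    have c2 : ∀ t u : K, D.stGen K (r b c) t * D.stGen K (r a c) u = D.stGen K (r a c) u * D.stGen K (r b c) t := by
      intro t u
      obtain ⟨g1, g2, g3⟩ := hc b c a c ⟨hbc, hac, Ne.symm hac, hbc, fun h => hab h.1.symm⟩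
      exact st_comm (ha b c hbc) (ha a c hac) g1 g2 g3 _ _
    -- `x_s(u) x_r(t) = x_r(t) x_s(u) x_k(c (-t) u)`
    have key : ∀ t u : K, D.stGen K (r b c) u * D.stGen K (r a b) t = D.stGen K (r a b) t * D.stGen K (r b c) u *
        D.stGen K (r a c) (((s a b * s b c * s a c : ℤ) : K) * (-t) * u) := by
      intro t u
      rw [stGen_mul_stGen D (ha a b hab) (ha b c hbc) h1 h2]
      congr 1
      show wd D (List.map _ (D.commTerms (r a b) (r b c))) = _
      rw [h3, List.map_cons, List.map_nil, wd_singleton]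
      congr 1
      show ((s a b * s b c * s a c : ℤ) : K) * (-t) ^ 1 * u ^ 1 = _
      rw [pow_one, pow_one]
    rw [commutatorElement_def]
    set T : K := (s a b : K) * t with hT
    set V : K := (s b c : K) * u with hV
    have e1 := key T V
    have e2 : D.stGen K (r a b) T * D.stGen K (r b c) V = D.stGen K (r b c) V * D.stGen K (r a b) T *
        D.stGen K (r a c) (((s a b * s b c * s a c : ℤ) : K) * T * V) := by
      rw [e1, mul_assoc, stGen_mul]
      have : ((s a b * s b c * s a c : ℤ) : K) * -T * V + ((s a b * s b c * s a c : ℤ) : K) * T * V = 0 := by ring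
      rw [this, stGen_zero, mul_one]
    have e3 : (s a c : K) * (t * u) = ((s a b * s b c * s a c : ℤ) : K) * T * V := by
      rw [hT, hV, Int.cast_mul, Int.cast_mul]
      calc (s a c : K) * (t * u)
          = ((s a b : K) * (s a b : K)) * ((s b c : K) * (s b c : K)) * ((s a c : K) * (t * u)) := by
            rw [hsq, hsq]; ring
        _ = _ := by ring
    rw [e3, e2]
    obtain ⟨Z, hZ⟩ : ∃ Z, Z = D.stGen K (r a c) (((s a b * s b c * s a c : ℤ) : K) * T * V) := ⟨_, rfl⟩
    rw [← hZ]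
    have f1 : D.stGen K (r a b) T * Z = Z * D.stGen K (r a b) T := by rw [hZ]; exact c1 _ _
    have f2 : D.stGen K (r b c) V * Z = Z * D.stGen K (r b c) V := by rw [hZ]; exact c2 _ _
    calc D.stGen K (r b c) V * D.stGen K (r a b) T * Z * (D.stGen K (r a b) T)⁻¹ * (D.stGen K (r b c) V)⁻¹
        = D.stGen K (r b c) V * (D.stGen K (r a b) T * Z) * (D.stGen K (r a b) T)⁻¹ * (D.stGen K (r b c) V)⁻¹ := by
          group
      _ = (D.stGen K (r b c) V * Z) * (D.stGen K (r b c) V)⁻¹ := by rw [f1]; group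
      _ = Z := by rw [f2]; group

/-- `h_r` is multiplicative, with signs -/
theorem st_hRel {r : Fin n → Fin n → ℕ} {s : Fin n → Fin n → ℤ} (ha : RTa D r) (hd : RTd s)
    (hsym : ∀ a b, a ≠ b → s b a = s a b) (hneg : ∀ a b, a ≠ b → r b a = D.neg (r a b)) :
    CTFrame.Torus.HRel fun a b (t : K) => D.stGen K (r a b) ((s a b : K) * t) := by
  intro i j hij a b ha0 hb0
  have hss : (s i j : K) * (s i j : K) = 1 := by rw [← Int.cast_mul, hd, Int.cast_one]
  have hs0 : (s i j : K) ≠ 0 := left_ne_zero_of_mul_eq_one hss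
  have hsi : (s i j : K)⁻¹ = (s i j : K) := inv_eq_of_mul_eq_one_left hss
  have hw : ∀ u : K, CTFrame.Weyl.w (fun a b (t : K) => D.stGen K (r a b) ((s a b : K) * t)) i j u =
      stn D (r i j) ((s i j : K) * u) := by
    intro u
    rw [stn_eq]
    show D.stGen K (r i j) _ * D.stGen K (r j i) _ * D.stGen K (r i j) _ = _
    rw [hneg i j hij, hsym i j hij, mul_inv, hsi, mul_neg]
  have ht : ∀ u : K, u ≠ 0 → CTFrame.Weyl.t (fun a b (t : K) => D.stGen K (r a b) ((s a b : K) * t)) i j u =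
      sth D (r i j) u := by
    intro u hu
    unfold CTFrame.Weyl.t
    rw [hw, hw, mul_neg, mul_one, stn_neg]
    have e1 : stn D (r i j) ((s i j : K) * u) * (stn D (r i j) (s i j : K))⁻¹ =
        sth D (r i j) ((s i j : K) * u) * (sth D (r i j) (s i j : K))⁻¹ := by
      rw [sth_eq, sth_eq]; group
    rw [e1, ← sth_mul D (ha i j hij) hs0 hu, sth_mul D (ha i j hij) hs0 hu, mul_comm (s i j : K) u,
      ← sth_mul D (ha i j hij) hu hs0, mul_inv_cancel_right]
  rw [ht a ha0, ht b hb0, ht (a * b) (mul_ne_zero ha0 hb0), sth_mul D (ha i j hij) ha0 hb0]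

/-- **The block.** -/
theorem exists_hom_St {r : Fin (n + 3) → Fin (n + 3) → ℕ} {s : Fin (n + 3) → Fin (n + 3) → ℤ} (ha : RTa D r)
    (hb : RTb D r s) (hc : RTc D r) (hd : RTd s) (hsym : ∀ a b, a ≠ b → s b a = s a b)
    (hneg : ∀ a b, a ≠ b → r b a = D.neg (r a b)) :
    ∃ φ : Matrix.SpecialLinearGroup (Fin (n + 3)) K →* D.SteinbergGroup K, ∀ a b (hab : a ≠ b) c,
      φ (Matrix.SpecialLinearGroup.transvection hab c) = D.stGen K (r a b) ((s a b : K) * c) := by
  obtain ⟨φ, hφ, -⟩ := CTFrame.Hom.exists_hom (st_steinRel (K := K) ha hb hc hd) (st_hRel ha hd hsym hneg) (by simp)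
  exact ⟨φ, hφ⟩

end Cfsg.Agent.H92.QS
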